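import Groth.Agent.Lib.ThickDesc6.Pull
import Groth.Agent.Lib.DualRing.SchemePull
import Groth.Agent.Lib.RightAdj20.BaseChangeTools
import Groth.Agent.Lib.QCohDesc.Basic
import Groth.Agent.Lib.FTDesc.Basic
import Groth.Agent.Lib.FTDesc.GenOn

/-! # Pseudo-coherence descends along fppf morphisms -/

set_option autoImplicit false
set_option maxHeartbeats 1600000
set_option backward.isDefEq.respectTransparency false
set_option linter.style.haveILetI false
universe u

open CategoryTheory CategoryTheory.Limits AlgebraicGeometry HomologicalComplex CategoryTheory.Pretriangulated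

attribute [local instance] HasDerivedCategory.standard

namespace GrothLib.PCFppf29

open GrothLib.OX GrothLib.KSix19

variable {X X' : Scheme.{u}}

/-- Bounds on cohomology descend along flat surjective morphisms. -/
theorem isLE_of_lpull (f : X' ⟶ X) [Flat f] [Surjective f] [DCoh.HasLpull f] (K : DCoh.D X) (b : ℤ)
    (h : ((DCoh.Lpull f).obj K).IsLE b) : K.IsLE b := by
  haveI := preservesFiniteLimits_pullback_of_flat f
  haveI := additive_pullback f
  obtain ⟨l⟩ := GrothLib.DualRing.nonempty_lpull_flat f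
  refine (DerivedCategory.isLE_iff _ _).2 fun j hj => ?_
  obtain ⟨e⟩ := DerTrunc.nonempty_homology_mapDerivedCategory (Scheme.Modules.pullback f) K j
  have hz : IsZero ((Scheme.Modules.pullback f).obj ((DerivedCategory.homologyFunctor _ j).obj K)) :=
    (DerivedCategory.isZero_of_isLE _ b j hj).of_iso
      (e.symm ≪≫ (DerivedCategory.homologyFunctor _ j).mapIso (l.app K).symm)
  haveI := QCohDesc.mono_unit f ((DerivedCategory.homologyFunctor X.Modules j).obj K)
  exact IsZero.of_mono ((Scheme.Modules.pullbackPushforwardAdjunction f).unit.app _)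
    (Functor.map_isZero (Scheme.Modules.pushforward f) hz)

/-- A module whose fppf pullback is of finite type is locally a quotient of a finite free module. -/
theorem exists_free_epi_of_pullback (f : X' ⟶ X) [Flat f] [Surjective f] (hf : IsOpenMap f.base) (M : X.Modules)
    (h : CohB1.IsFT ((Scheme.Modules.pullback f).obj M)) (x : X) :
    ∃ (V : X.Opens) (n : ℕ) (q : FlatMod.freeMod V.toScheme n ⟶ (Scheme.Modules.restrictFunctor V.ι).obj M),
      x ∈ V ∧ Epi q := by
  have hM : CohB1.IsFT M :=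
    GrothLib.FTDesc.isFiniteType_of_genOn M fun y => GrothLib.FTDesc.exists_genOn_of_pullback f M hf h y
  obtain ⟨W, G, hxW, hG⟩ := GrothLib.QCoh.exists_generatingSections_restrict M hM x
  haveI : Finite G.I := hG.finite
  letI : Fintype G.I := Fintype.ofFinite _
  let p : (∐ fun _ : Fin (Fintype.card G.I) => Coh.structureModule (W : Scheme.{u})) ⟶ M.restrict W.ι :=
    (Sigma.reindex (Fintype.equivFin G.I).symm (fun _ : G.I => Coh.structureModule (W : Scheme.{u}))).hom ≫ G.π
  exact ⟨W, Fintype.card G.I, p, hxW, @epi_comp _ _ _ _ _ _ inferInstance _ G.epi⟩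

theorem isPseudoCoherentD_of_lpull_aux (m : ℤ) :
    ∀ (d : ℕ) {X X' : Scheme.{u}} (f : X' ⟶ X) [Flat f] [Surjective f] [LocallyOfFinitePresentation f]
      [DCoh.HasLpull f] (K : DCoh.D X), K.IsLE (m - 1 + d) → DCoh.IsPseudoCoherentD m ((DCoh.Lpull f).obj K) →
        DCoh.IsPseudoCoherentD m K
  | 0, X, X', f, _, _, _, _, K, hK, _ => by
    have : K.IsLE (m - 1) := by simpa using hK
    exact isPseudoCoherentD_iff.2 fun x => ⟨_, 𝟙 _, inferInstance, ⟨x, rfl⟩, (approx_of_isLE this).restrict (𝟙 _)⟩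
  | d + 1, X, X', f, _, _, _, _, K, hK, hpc => by
    let b : ℤ := m + d
    have hb : m - 1 + ((d + 1 : ℕ) : ℤ) = b := by simp only [b]; push_cast; omega
    rw [hb] at hK
    refine isPseudoCoherentD_of_local fun y => ?_
    have hL := ThickDesc6.isLE_lpull f hK
    obtain ⟨e⟩ := ThickDesc6.nonempty_hd_lpull_top f K b hK
    have hft' : CohB1.IsFT ((Scheme.Modules.pullback f).obj (DCoh.HD K b)) := isFT_of_local_epi _ fun x => by
      obtain ⟨U, n, p, hxU, hp⟩ := exists_free_epi_top (isPseudoCoherentD_mono hpc (by simp only [b]; omega))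
        (fun k hk => DerivedCategory.isZero_of_isLE _ b k hk) x
      exact ⟨U, n, p ≫ (Scheme.Modules.restrictFunctor U.ι).map e.hom, hxU,
        @epi_comp _ _ _ _ _ p hp _ inferInstance⟩
    obtain ⟨V, n, q, hyV, hq⟩ := exists_free_epi_of_pullback f f.isOpenMap (DCoh.HD K b) hft' y
    obtain ⟨e₁⟩ := nonempty_hd_resD V.ι K b
    let g : FlatMod.freeMod V.toScheme n ⟶ DCoh.HD ((resD V.ι).obj K) b := q ≫ e₁.inv
    have : Epi g := @epi_comp _ _ _ _ _ q hq _ inferInstance
    obtain ⟨W, Tc, φ, v, w, hyW, hT, hTle⟩ := exists_top_triangle (isLE_resD V.ι hK) g ⟨y, hyV⟩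
    let f₁ := f ∣_ V
    let f₂ := f₁ ∣_ W
    have hs₁ : Surjective f₁ := IsZariskiLocalAtTarget.restrict (P := @Surjective) ‹_› V
    have hs₂ : Surjective f₂ := IsZariskiLocalAtTarget.restrict (P := @Surjective) hs₁ W
    haveI := hasLpull f₁
    haveI := hasLpull f₂
    obtain ⟨a₁⟩ := ThickDesc6.nonempty_resD_lpull f V K
    obtain ⟨a₂⟩ := ThickDesc6.nonempty_resD_lpull f₁ W ((resD V.ι).obj K)
    have hK₂ : DCoh.IsPseudoCoherentD m ((DCoh.Lpull f₂).obj ((resD W.ι).obj ((resD V.ι).obj K))) :=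
      isPseudoCoherentD_of_iso (isPseudoCoherentD_resD' _
        (isPseudoCoherentD_of_iso (isPseudoCoherentD_resD' _ hpc) a₁.symm)) a₂.symm
    obtain ⟨T', hT', ⟨c₁⟩, ⟨c₂⟩, ⟨c₃⟩⟩ := ThickDesc6.exists_lpull_triangle f₂ hT
    have hTpc : DCoh.IsPseudoCoherentD m ((DCoh.Lpull f₂).obj Tc) :=
      isPseudoCoherentD_of_iso ((isPseudoCoherentD_triangle m hT').1
        (isPseudoCoherentD_of_iso (ThickDesc6.pc_lpull_single_free W f₂ n b (m + 1)) c₁.symm)
        (isPseudoCoherentD_of_iso hK₂ c₂.symm)) c₃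
    have hTle' : Tc.IsLE (m - 1 + d) := by
      rw [show m - 1 + (d : ℤ) = b - 1 by simp only [b]; omega]; exact hTle
    have hTm := isPseudoCoherentD_of_lpull_aux m d f₂ Tc hTle' hTpc
    have hKm := (isPseudoCoherentD_triangle m hT).2.1 (pc_single_free W n b m) hTm
    exact ⟨_, W.ι ≫ V.ι, inferInstance, ⟨⟨⟨y, hyV⟩, hyW⟩, rfl⟩,
      isPseudoCoherentD_of_iso hKm (nonempty_resD_comp W.ι V.ι K).some.symm⟩

/-- **Pseudo-coherence descends along fppf morphisms.** -/
theorem isPseudoCoherentD_of_lpull (f : X' ⟶ X) [Flat f] [Surjective f] [LocallyOfFinitePresentation f]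
    [DCoh.HasLpull f] (K : DCoh.D X) (m : ℤ) (hpc : DCoh.IsPseudoCoherentD m ((DCoh.Lpull f).obj K)) :
    DCoh.IsPseudoCoherentD m K := by
  refine isPseudoCoherentD_of_local fun y => ?_
  obtain ⟨x, rfl⟩ := f.surjective y
  obtain ⟨U, hxU, hU⟩ := Approx.exists_open hpc x
  obtain ⟨b₀, hb₀⟩ := exists_isLE_of_approx hU
  let V : X.Opens := ⟨f '' U, f.isOpenMap U U.2⟩
  have hUV : U ≤ f ⁻¹ᵁ V := fun z hz => ⟨z, hz, rfl⟩
  let k : U.toScheme ⟶ V.toScheme := X'.homOfLE hUV ≫ f ∣_ V
  have hk : k ≫ V.ι = U.ι ≫ f := by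
    simp only [k, Category.assoc, morphismRestrict_ι]
    rw [Scheme.homOfLE_ι_assoc]
  have hks : Surjective k := ⟨fun v => by
    obtain ⟨z, hz, hzv⟩ := v.2
    refine ⟨⟨z, hz⟩, Subtype.ext ?_⟩
    have := congrArg (fun g : U.toScheme ⟶ X => g ⟨z, hz⟩) hk
    exact this.trans hzv⟩
  haveI := hasLpull k
  obtain ⟨s⟩ := GrothLib.RightAdj20.nonempty_resD_lpull_square f U.ι V.ι k hk
  let b := max (m - 1) b₀
  have hb₁ : ((DCoh.Lpull k).obj ((resD V.ι).obj K)).IsLE b := by
    refine (DerivedCategory.isLE_iff _ _).2 fun j hj => ?_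
    exact (@DerivedCategory.isZero_of_isLE _ _ _ _ ((resD U.ι).obj ((DCoh.Lpull f).obj K)) b₀ j (lt_of_le_of_lt (le_max_right _ _) hj) hb₀).of_iso
      ((DerivedCategory.homologyFunctor _ j).mapIso (s.app K).symm)
  have hV := isLE_of_lpull k _ b hb₁
  refine ⟨V.toScheme, V.ι, inferInstance, ⟨⟨f x, x, hxU, rfl⟩, rfl⟩, ?_⟩
  refine isPseudoCoherentD_of_lpull_aux m (b - m + 1).toNat k _ ?_
    (isPseudoCoherentD_of_iso (isPseudoCoherentD_resD' U.ι hpc) (s.app K))
  rw [show m - 1 + ((b - m + 1).toNat : ℤ) = b by have := le_max_left (m - 1) b₀; omega]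
  exact hV

end GrothLib.PCFppf29
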